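import Groth.Prelude.Def_SchLoc
import Groth.Agent.FpqcDescent.ReducedSub
import Mathlib.AlgebraicGeometry.Morphisms.Immersion
import Mathlib.AlgebraicGeometry.Morphisms.Separated
import Mathlib.AlgebraicGeometry.FunctionField
import Mathlib.RingTheory.Spectrum.Prime.Topology

set_option autoImplicit false
set_option backward.isDefEq.respectTransparency.types false

universe u

open CategoryTheory Limits TopologicalSpace

namespace Groth.Agent.LocalImm

open AlgebraicGeometry SchLoc

variable {X Y Z S : Scheme.{u}}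

lemma isLocalImmersionAt_iff_isImmersion (f : X ⟶ Y) (x : X) :
    IsLocalImmersionAt f x ↔ ∃ U : X.Opens, x ∈ U ∧ IsImmersion (U.ι ≫ f) := by
  constructor
  · rintro ⟨U, V, h, hx, hc⟩
    exact ⟨U, hx, by rw [← Scheme.Hom.resLE_comp_ι f h]; infer_instance⟩
  · rintro ⟨U, hx, hi⟩
    let V := (U.ι ≫ f).coborderRange
    have h : U ≤ f ⁻¹ᵁ V := fun a ha ↦ subset_coborder ⟨⟨a, ha⟩, rfl⟩
    refine ⟨U, V, h, hx, ?_⟩
    have : f.resLE V U h = (U.ι ≫ f).liftCoborder := by
      rw [← cancel_mono V.ι, Scheme.Hom.resLE_comp_ι, Scheme.Hom.liftCoborder_ι]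
    rw [this]
    infer_instance

lemma isImmersion_restrict_le (f : X ⟶ Y) {U U' : X.Opens} (h : U' ≤ U) [IsImmersion (U.ι ≫ f)] :
    IsImmersion (U'.ι ≫ f) := by
  rw [← X.homOfLE_ι h, Category.assoc]
  infer_instance

lemma isLocalImmersion_comp (f : X ⟶ Y) (g : Y ⟶ Z) (hf : IsLocalImmersion f)
    (hg : IsLocalImmersion g) : IsLocalImmersion (f ≫ g) := fun x ↦ by
  rw [isLocalImmersionAt_iff_isImmersion]
  obtain ⟨U, hxU, hU⟩ := (isLocalImmersionAt_iff_isImmersion f x).mp (hf x)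
  obtain ⟨V, hyV, hV⟩ := (isLocalImmersionAt_iff_isImmersion g (f x)).mp (hg (f x))
  refine ⟨U ⊓ f ⁻¹ᵁ V, ⟨hxU, hyV⟩, ?_⟩
  have := isImmersion_restrict_le f (inf_le_left : U ⊓ f ⁻¹ᵁ V ≤ U)
  let r := f.resLE V (U ⊓ f ⁻¹ᵁ V) inf_le_right
  have : IsImmersion (r ≫ V.ι) := by rwa [Scheme.Hom.resLE_comp_ι]
  have : IsImmersion r := IsImmersion.of_comp r V.ι
  rw [← Category.assoc, ← Scheme.Hom.resLE_comp_ι f (inf_le_right : U ⊓ f ⁻¹ᵁ V ≤ f ⁻¹ᵁ V),
    Category.assoc]
  infer_instance

lemma isLocalImmersion_of_comp (f : X ⟶ Y) (g : Y ⟶ Z) (h : IsLocalImmersion (f ≫ g)) :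
    IsLocalImmersion f := fun x ↦ by
  rw [isLocalImmersionAt_iff_isImmersion]
  obtain ⟨U, hxU, hU⟩ := (isLocalImmersionAt_iff_isImmersion _ x).mp (h x)
  rw [← Category.assoc] at hU
  exact ⟨U, hxU, IsImmersion.of_comp _ g⟩

lemma isLocalImmersion_pullback_snd {S' : Scheme.{u}} (f : X ⟶ S) (g : S' ⟶ S)
    (hf : IsLocalImmersion f) : IsLocalImmersion (pullback.snd f g) := fun p ↦ by
  rw [isLocalImmersionAt_iff_isImmersion]
  obtain ⟨U, hxU, hU⟩ := (isLocalImmersionAt_iff_isImmersion f _).mp (hf (pullback.fst f g p))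
  refine ⟨pullback.fst f g ⁻¹ᵁ U, hxU, ?_⟩
  have h := (isPullback_morphismRestrict (pullback.fst f g) U).paste_vert
    (IsPullback.of_hasPullback f g)
  exact MorphismProperty.of_isPullback (P := @IsImmersion) h hU

lemma stalkMap_surjective_of_isLocalImmersionAt (f : X ⟶ Y) (x : X) (hf : IsLocalImmersionAt f x) :
    Function.Surjective (f.stalkMap x) := by
  obtain ⟨U, hxU, hU⟩ := (isLocalImmersionAt_iff_isImmersion f x).mp hf
  have h := (U.ι ≫ f).stalkMap_surjective ⟨x, hxU⟩
  intro a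
  obtain ⟨b, hb⟩ := h (U.ι.stalkMap ⟨x, hxU⟩ a)
  exact ⟨b, (ConcreteCategory.bijective_of_isIso (U.ι.stalkMap ⟨x, hxU⟩)).1
    (congr(($(Scheme.Hom.stalkMap_comp U.ι f ⟨x, hxU⟩)).hom b).symm.trans hb)⟩

lemma injective_of_stalkMap_surjective_of_isIntegral [IsIntegral X] (f : X ⟶ Y) [IsSeparated f]
    (h : ∀ x, Function.Surjective (f.stalkMap x)) : Function.Injective f.base := by
  intro x₁ x₂ he
  replace he : f x₁ = f x₂ := he
  have s₁ : genericPoint X ⤳ x₁ := genericPoint_specializes x₁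
  have s₂ : genericPoint X ⤳ x₂ := genericPoint_specializes x₂
  let h₁ := X.presheaf.stalkSpecializes s₁
  let h₂ := X.presheaf.stalkSpecializes s₂
  have hinj : ∀ {x : X} (s : genericPoint X ⤳ x),
      Function.Injective (X.presheaf.stalkSpecializes s) := fun {x} s ↦ by
    rw [injective_iff_map_eq_zero]
    intro a ha
    obtain ⟨U, hxU, b, rfl⟩ := TopCat.Presheaf.exists_germ_eq X.presheaf a
    rw [← CommRingCat.comp_apply, TopCat.Presheaf.germ_stalkSpecializes] at ha
    have hb := germ_injective_of_isIntegral X (U := U) (genericPoint X) (s.mem_open U.isOpen hxU)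
      (ha.trans (map_zero _).symm)
    rw [hb, map_zero]
  let σ₁ := f.stalkMap x₁
  let c := Y.presheaf.stalkSpecializes (Inseparable.of_eq he.symm).specializes
  let σ₂ := c ≫ f.stalkMap x₂
  have hσ₂ : Function.Surjective σ₂ := fun a ↦ by
    obtain ⟨b, rfl⟩ := h x₂ a
    refine ⟨Y.presheaf.stalkSpecializes (Inseparable.of_eq he).specializes b, ?_⟩
    simp only [σ₂, c, CommRingCat.comp_apply]
    rw [← CommRingCat.comp_apply (Y.presheaf.stalkSpecializes _) (Y.presheaf.stalkSpecializes _),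
      TopCat.Presheaf.stalkSpecializes_comp, TopCat.Presheaf.stalkSpecializes_refl]
    rfl
  have hcomm : σ₁ ≫ h₁ = σ₂ ≫ h₂ := by
    simp only [σ₁, σ₂, h₁, h₂, c, Category.assoc, ← Scheme.Hom.stalkSpecializes_stalkMap]
    rw [TopCat.Presheaf.stalkSpecializes_comp_assoc]
  have hker : RingHom.ker σ₁.hom = RingHom.ker σ₂.hom := by
    ext a
    have e : h₁.hom (σ₁.hom a) = h₂.hom (σ₂.hom a) := by
      rw [← RingHom.comp_apply, ← RingHom.comp_apply, ← CommRingCat.hom_comp,
        ← CommRingCat.hom_comp, hcomm]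
    simp only [RingHom.mem_ker]
    rw [← map_eq_zero_iff _ (hinj s₁), ← map_eq_zero_iff _ (hinj s₂)]
    exact ⟨fun ha ↦ e.symm.trans ha, fun ha ↦ e.trans ha⟩
  let e : X.presheaf.stalk x₁ ⟶ X.presheaf.stalk x₂ := CommRingCat.ofHom
    (RingHom.liftOfRightInverse σ₁.hom _ (Function.rightInverse_surjInv (h x₁))
      (⟨σ₂.hom, hker.le⟩ : {g : _ →+* X.presheaf.stalk x₂ // RingHom.ker σ₁.hom ≤ RingHom.ker g}))
  have he₁ : σ₁ ≫ e = σ₂ := by
    apply CommRingCat.hom_ext
    ext a
    exact RingHom.liftOfRightInverse_comp_apply σ₁.hom _ (Function.rightInverse_surjInv (h x₁))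
      ⟨σ₂.hom, hker.le⟩ a
  have hesurj : Function.Surjective e.hom := by
    intro a
    obtain ⟨b, rfl⟩ := hσ₂ a
    refine ⟨σ₁.hom b, ?_⟩
    rw [← he₁]
    rfl
  have : IsLocalHom e.hom := .of_surjective _ hesurj
  have he₂ : e ≫ h₂ = h₁ := by
    apply CommRingCat.hom_ext
    ext a
    obtain ⟨b, rfl⟩ := h x₁ a
    rw [← RingHom.comp_apply, ← RingHom.comp_apply, ← CommRingCat.hom_comp, ← CommRingCat.hom_comp,
      reassoc_of% he₁]
    exact congr(($hcomm).hom b).symm
  have : IsDominant (Spec.map h₂) := by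
    rw [isDominant_iff]
    refine (PrimeSpectrum.denseRange_comap_iff_ker_le_nilRadical h₂.hom).mpr ?_
    rw [(RingHom.injective_iff_ker_eq_bot _).mp (hinj s₂)]
    exact bot_le
  have key : Spec.map e ≫ X.fromSpecStalk x₁ = X.fromSpecStalk x₂ := by
    refine ext_of_isDominant_of_isSeparated f ?_ (Spec.map h₂) ?_
    · rw [Category.assoc, ← Scheme.SpecMap_stalkMap_fromSpecStalk,
        ← Scheme.SpecMap_stalkMap_fromSpecStalk, ← Spec.map_comp_assoc]
      change Spec.map (σ₁ ≫ e) ≫ _ = _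
      rw [he₁, Spec.map_comp, Category.assoc]
      congr 1
      exact Scheme.SpecMap_stalkSpecializes_fromSpecStalk _
    · rw [← Spec.map_comp_assoc, he₂, Scheme.SpecMap_stalkSpecializes_fromSpecStalk,
        Scheme.SpecMap_stalkSpecializes_fromSpecStalk]
  have h3 := congr(($key).base (IsLocalRing.closedPoint (X.presheaf.stalk x₂)))
  rw [Scheme.Hom.comp_base, TopCat.comp_app] at h3
  rw [show (Spec.map e).base (IsLocalRing.closedPoint _) = IsLocalRing.closedPoint _ from
    IsLocalRing.comap_closedPoint e.hom] at h3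
  simpa using h3

lemma injective_of_isLocalImmersion [IrreducibleSpace X] (f : X ⟶ Y) (hf : IsLocalImmersion f)
    [IsSeparated f] : Function.Injective f.base := by
  let i := (Scheme.IdealSheafData.vanishingIdeal (X := X) ⊤).subschemeι
  have hs : Function.Surjective i.base := Set.range_eq_univ.mp
    (by simp [i, Scheme.IdealSheafData.range_subschemeι])
  let hh : (Scheme.IdealSheafData.vanishingIdeal (X := X) ⊤).subscheme ≃ₜ X :=
    IsHomeomorph.homeomorph i.base
      (isHomeomorph_iff_isEmbedding_surjective.mpr ⟨i.isClosedEmbedding.isEmbedding, hs⟩)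
  have : IrreducibleSpace (Scheme.IdealSheafData.vanishingIdeal (X := X) ⊤).subscheme :=
    hh.symm.surjective.irreducibleSpace hh.symm.continuous
  have : IsIntegral (Scheme.IdealSheafData.vanishingIdeal (X := X) ⊤).subscheme :=
    isIntegral_of_irreducibleSpace_of_isReduced _
  have h := injective_of_stalkMap_surjective_of_isIntegral (i ≫ f) fun x a ↦ by
    obtain ⟨b, rfl⟩ := i.stalkMap_surjective x a
    obtain ⟨c, rfl⟩ := stalkMap_surjective_of_isLocalImmersionAt f _ (hf (i x)) b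
    exact ⟨c, congr(($(Scheme.Hom.stalkMap_comp i f x)).hom c)⟩
  intro a b hab
  obtain ⟨a, rfl⟩ := hs a
  obtain ⟨b, rfl⟩ := hs b
  exact congr_arg i.base (h hab)

/-- An injective local immersion with irreducible source is a closed immersion into an open. -/
lemma exists_isClosedImmersion_of_injective [IrreducibleSpace X] (f : X ⟶ Y)
    (hf : IsLocalImmersion f) (hi : Function.Injective f.base) :
    ∃ (W : Y.Opens) (g : X ⟶ W), IsClosedImmersion g ∧ g ≫ W.ι = f := by
  choose U V hUV hxU hc using hf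
  have heq : ∀ x, U x = f ⁻¹ᵁ V x := by
    intro x
    refine le_antisymm (hUV x) fun a ha ↦ ?_
    have : a ∈ closure ((U x : Set X)) := by
      have hd : Dense (U x : Set X) := (U x).isOpen.dense ⟨x, hxU x⟩
      exact hd a
    have h1 : f a ∈ closure (f.base '' (U x : Set X)) :=
      image_closure_subset_closure_image f.continuous ⟨a, this, rfl⟩
    have h2 : IsClosed (Set.range (f.resLE (V x) (U x) (hUV x)).base) :=
      have := hc x
      (f.resLE (V x) (U x) (hUV x)).isClosedEmbedding.isClosed_range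
    obtain ⟨C, hC, hCeq⟩ := isClosed_induced_iff.mp h2
    have h3 : f.base '' (U x : Set X) ⊆ C := by
      rintro _ ⟨b, hb, rfl⟩
      have : (f.resLE (V x) (U x) (hUV x)).base ⟨b, hb⟩ ∈ Subtype.val ⁻¹' C := hCeq ▸ ⟨_, rfl⟩
      replace this : ((f.resLE (V x) (U x) (hUV x)).base ⟨b, hb⟩).1 ∈ C := this
      convert this
      exact (congr(($(Scheme.Hom.resLE_comp_ι f (hUV x))).base ⟨b, hb⟩)).symm
    have h4 : (⟨f a, ha⟩ : V x) ∈ Subtype.val ⁻¹' C := closure_minimal h3 hC h1
    replace h4 : (⟨f a, ha⟩ : V x) ∈ Set.range (f.resLE (V x) (U x) (hUV x)).base := hCeq ▸ h4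
    obtain ⟨⟨b, hb⟩, hb'⟩ := h4
    have : f.base b = f.base a :=
      (congr(($(Scheme.Hom.resLE_comp_ι f (hUV x))).base ⟨b, hb⟩)).symm.trans
        (congr_arg Subtype.val hb')
    exact hi this ▸ hb
  let W : Y.Opens := ⨆ x, V x
  have hW : Set.range f.base ⊆ Set.range W.ι.base := by
    rw [Scheme.Opens.range_ι]
    rintro _ ⟨x, rfl⟩
    exact Opens.mem_iSup.mpr ⟨x, hUV x (hxU x)⟩
  obtain ⟨g, hg⟩ : ∃ g : X ⟶ W, g ≫ W.ι = f :=
    ⟨IsOpenImmersion.lift W.ι f hW, IsOpenImmersion.lift_fac _ _ _⟩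
  refine ⟨W, g, ?_, hg⟩
  refine IsZariskiLocalAtTarget.of_iSup_eq_top (P := @IsClosedImmersion)
    (fun x ↦ W.ι ⁻¹ᵁ V x) ?_ fun x ↦ ?_
  · rw [← Scheme.Hom.preimage_iSup]
    exact Scheme.Opens.ι_preimage_self _
  · have key : IsClosedImmersion (f ∣_ V x) := by
      have := hc x
      rw [← Scheme.Hom.resLE_eq_morphismRestrict]
      exact (Scheme.Hom.resLE_congr f (hUV x) rfl (heq x) @IsClosedImmersion).mp this
    subst hg
    rw [morphismRestrict_comp] at key
    exact MorphismProperty.of_postcomp (W := @IsClosedImmersion) (W' := @IsSeparated) (g ∣_ W.ι ⁻¹ᵁ V x) (W.ι ∣_ V x)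
      inferInstance key

lemma isImmersion_of_isLocalImmersion_of_injective [IrreducibleSpace X] (f : X ⟶ Y)
    (hf : IsLocalImmersion f) (hi : Function.Injective f.base) : IsImmersion f := by
  obtain ⟨W, g, hg, rfl⟩ := exists_isClosedImmersion_of_injective f hf hi
  infer_instance

lemma isImmersion_of_isLocalImmersion_of_isSeparated [IrreducibleSpace X] (f : X ⟶ Y)
    (hf : IsLocalImmersion f) [IsSeparated f] : IsImmersion f :=
  isImmersion_of_isLocalImmersion_of_injective f hf (injective_of_isLocalImmersion f hf)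

lemma isOpen_range_of_isDominant [IrreducibleSpace X] (f : X ⟶ Y) [IsDominant f]
    (hf : IsLocalImmersion f) (hi : Function.Injective f.base) : IsOpen (Set.range f.base) := by
  obtain ⟨W, g, hg, e⟩ := exists_isClosedImmersion_of_injective f hf hi
  have hd : DenseRange f.base := f.denseRange
  suffices Set.range f.base = (W : Set Y) from this ▸ W.isOpen
  refine Set.Subset.antisymm ?_ fun y hy ↦ ?_
  · rintro _ ⟨x, rfl⟩
    rw [← e]
    exact (g.base x).2
  · have hcl := g.isClosedEmbedding.isClosed_range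
    obtain ⟨C, hC, hCeq⟩ := isClosed_induced_iff.mp hcl
    have h3 : Set.range f.base ⊆ C := by
      rintro _ ⟨x, rfl⟩
      have : g.base x ∈ Subtype.val ⁻¹' C := hCeq ▸ ⟨x, rfl⟩
      rw [← e]
      exact this
    have h4 : (⟨y, hy⟩ : W) ∈ Set.range g.base := hCeq ▸ (closure_minimal h3 hC (hd y) : y ∈ C)
    obtain ⟨x, hx⟩ := h4
    exact ⟨x, by rw [← e]; exact congr_arg Subtype.val hx⟩

lemma isLocalImmersion_of_isLocalIso (f : X ⟶ Y) (hf : SchLoc.IsLocalIso f) :
    IsLocalImmersion f := fun x ↦ by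
  obtain ⟨U, hx, hU⟩ := hf x
  exact (isLocalImmersionAt_iff_isImmersion f x).mpr ⟨U, hx, inferInstance⟩

lemma isOpenImmersion_of_isLocalIso_of_isSeparated [IrreducibleSpace X] (f : X ⟶ Y)
    (hf : SchLoc.IsLocalIso f) [IsSeparated f] : IsOpenImmersion f := by
  have hi := injective_of_isLocalImmersion f (isLocalImmersion_of_isLocalIso f hf)
  choose U hx hU using hf
  have hopen : IsOpenMap f.base := by
    intro s hs
    have : f.base '' s = ⋃ x, ((U x).ι ≫ f).base '' ((U x).ι.base ⁻¹' s) := by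
      ext y
      simp only [Set.mem_image, Set.mem_iUnion, Set.mem_preimage, Scheme.Hom.comp_base,
        TopCat.comp_app]
      constructor
      · rintro ⟨x, hxs, rfl⟩
        exact ⟨x, ⟨x, hx x⟩, hxs, rfl⟩
      · rintro ⟨x, a, ha, rfl⟩
        exact ⟨_, ha, rfl⟩
    rw [this]
    exact isOpen_iUnion fun x ↦ have := hU x
      ((U x).ι ≫ f).isOpenEmbedding.isOpenMap _ (hs.preimage (U x).ι.continuous)
  have : ∀ x, IsIso (f.stalkMap x) := fun x ↦ by
    have := hU x
    have h := (inferInstance : IsIso (((U x).ι ≫ f).stalkMap ⟨x, hx x⟩))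
    have hι : IsIso ((U x).ι.stalkMap ⟨x, hx x⟩) := inferInstance
    rw [Scheme.Hom.stalkMap_comp] at h
    exact @IsIso.of_isIso_comp_right _ _ _ _ _ _ ((U x).ι.stalkMap ⟨x, hx x⟩) hι h
  exact IsOpenImmersion.of_isIso_stalkMap f
    (Topology.IsOpenEmbedding.of_continuous_injective_isOpenMap f.continuous hi hopen)

end Groth.Agent.LocalImm
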