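import Groth.Agent.LocalImm.Basic
import Mathlib.AlgebraicGeometry.Morphisms.SurjectiveOnStalks
import Mathlib.AlgebraicGeometry.Morphisms.FiniteType

set_option autoImplicit false
set_option backward.isDefEq.respectTransparency.types false

universe u

open CategoryTheory Limits TopologicalSpace

namespace Groth.Agent.LocalImm

open AlgebraicGeometry SchLoc

/-- A finite type algebra which is surjective on stalks at a prime becomes, after localizing,
a quotient of a localization of the base. -/
lemma exists_away_surjective {A B : Type u} [CommRing A] [CommRing B] (φ : A →+* B)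
    (hft : φ.FiniteType) (q : Ideal B) [q.IsPrime]
    (h : Function.Surjective (Localization.localRingHom (q.comap φ) q φ rfl)) :
    ∃ (a : A) (g : B), g ∉ q ∧ ∃ ψ : Localization.Away a →+* Localization.Away g,
      Function.Surjective ψ ∧
        ψ.comp (algebraMap A (Localization.Away a)) =
          (algebraMap B (Localization.Away g)).comp φ := by
  classical
  let alg : Algebra A B := φ.toAlgebra
  obtain ⟨n, π, hπ⟩ := Algebra.FiniteType.iff_quotient_mvPolynomial''.mp
    (show Algebra.FiniteType A B from hft)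
  choose x r c hc hr heq using
    fun i : Fin n ↦ (RingHom.surjective_localRingHom_iff q).mp h (π (MvPolynomial.X i))
  let t : B := ∏ i, c i
  let s : A := ∏ i, r i
  let a : Fin n → A := fun i ↦ x i * ∏ j ∈ Finset.univ.erase i, r j
  have ht : t ∉ q := fun hq ↦ by
    obtain ⟨i, -, hi⟩ := Ideal.IsPrime.prod_mem_iff.mp hq
    exact hc i hi
  have hs : φ s ∉ q := fun hq ↦ by
    rw [map_prod] at hq
    obtain ⟨i, -, hi⟩ := Ideal.IsPrime.prod_mem_iff.mp hq
    exact hr i hi
  have key : ∀ i, t * (φ s * π (MvPolynomial.X i)) = t * φ (a i) := fun i ↦ by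
    have hs' : φ s = φ (r i) * φ (∏ j ∈ Finset.univ.erase i, r j) := by
      rw [← map_mul, Finset.mul_prod_erase _ _ (Finset.mem_univ i)]
    have ht' : t = c i * ∏ j ∈ Finset.univ.erase i, c j :=
      (Finset.mul_prod_erase _ _ (Finset.mem_univ i)).symm
    have e := congrArg (fun b ↦ b * φ (∏ j ∈ Finset.univ.erase i, r j) *
      (∏ j ∈ Finset.univ.erase i, c j)) (heq i)
    rw [hs', ht', show a i = x i * ∏ j ∈ Finset.univ.erase i, r j from rfl, map_mul φ (x i)]
    linear_combination e
  let g : B := φ s * t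
  have hg : g ∉ q := fun hq ↦ (Ideal.IsPrime.mem_or_mem ‹_› hq).elim hs ht
  let R := Localization.Away g
  let ι : B →+* R := algebraMap B R
  have hgu : IsUnit (ι (φ s) * ι t) := by
    rw [← map_mul]
    exact IsLocalization.Away.algebraMap_isUnit g
  have hsu : IsUnit (ι (φ s)) := isUnit_of_mul_isUnit_left hgu
  have htu : IsUnit (ι t) := isUnit_of_mul_isUnit_right hgu
  have key' : ∀ i, ι (π (MvPolynomial.X i)) * ι (φ s) = ι (φ (a i)) := fun i ↦ by
    refine htu.mul_left_cancel ?_
    have := congrArg ι (key i)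
    simp only [map_mul] at this
    linear_combination this
  let χ : Localization.Away s →+* R := IsLocalization.Away.lift s (g := ι.comp φ) hsu
  have hχ : ∀ y, χ (algebraMap A _ y) = ι (φ y) := fun y ↦ IsLocalization.Away.lift_eq s hsu y
  let π' : MvPolynomial (Fin n) A →+* Localization.Away s := MvPolynomial.eval₂Hom
    (algebraMap A _) (fun i ↦ IsLocalization.mk' _ (a i) (⟨s, Submonoid.mem_powers s⟩ : Submonoid.powers s))
  have hcomp : χ.comp π' = ι.comp π.toRingHom := by
    refine MvPolynomial.ringHom_ext (fun y ↦ ?_) (fun i ↦ ?_)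
    · simp only [RingHom.comp_apply, π', MvPolynomial.eval₂Hom_C, hχ]
      congr 1
      exact (π.commutes y).symm
    · simp only [RingHom.comp_apply, π', MvPolynomial.eval₂Hom_X']
      refine hsu.mul_right_cancel ?_
      rw [← hχ s, ← map_mul, IsLocalization.mk'_spec, hχ, hχ s]
      exact (key' i).symm
  obtain ⟨pt, hpt⟩ := hπ t
  obtain ⟨d, ⟨_, m, rfl⟩, hd⟩ := IsLocalization.exists_mk'_eq (Submonoid.powers s) (π' pt)
  have hdt : ι (φ d) = ι t * ι (φ s) ^ m := by
    have e : χ (π' pt) * ι (φ (s ^ m)) = ι (φ d) := by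
      rw [← hd, ← hχ, ← map_mul, IsLocalization.mk'_spec, hχ]
    rw [← e, ← RingHom.comp_apply χ π', hcomp, map_pow, map_pow]
    simp [hpt]
  have hdu : IsUnit (ι (φ (s * d))) := by
    rw [map_mul, map_mul, hdt]
    exact hsu.mul (htu.mul (hsu.pow m))
  let ψ : Localization.Away (s * d) →+* R := IsLocalization.Away.lift (s * d) (g := ι.comp φ) hdu
  have hψ : ∀ y, ψ (algebraMap A _ y) = ι (φ y) := fun y ↦ IsLocalization.Away.lift_eq (s * d) hdu y
  have hunit : ∀ y, IsUnit (algebraMap A (Localization.Away (s * d)) y) →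
      ∃ z, ψ z * ι (φ y) = 1 := fun y hy ↦
    ⟨↑hy.unit⁻¹, by rw [← hψ, ← map_mul, IsUnit.val_inv_mul, map_one]⟩
  have hu : IsUnit (algebraMap A (Localization.Away (s * d)) (s * d)) :=
    IsLocalization.Away.algebraMap_isUnit _
  rw [map_mul] at hu
  obtain ⟨zs, hzs⟩ := hunit s (isUnit_of_mul_isUnit_left hu)
  obtain ⟨zd, hzd⟩ := hunit d (isUnit_of_mul_isUnit_right hu)
  have hB : ∀ b, ι b ∈ ψ.range := by
    intro b
    obtain ⟨p, rfl⟩ := hπ b
    induction p using MvPolynomial.induction_on with
    | C y => exact ⟨algebraMap A _ y, (hψ y).trans (congrArg ι (π.commutes y).symm)⟩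
    | add p p' hp hp' => rw [map_add, map_add]; exact add_mem hp hp'
    | mul_X p i hp =>
      rw [map_mul, map_mul]
      refine mul_mem hp ⟨zs * algebraMap A _ (a i), ?_⟩
      rw [map_mul, hψ, ← key']
      linear_combination ι (π (MvPolynomial.X i)) * hzs
  refine ⟨s * d, g, hg, ψ, fun z ↦ ?_, RingHom.ext fun y ↦ hψ y⟩
  obtain ⟨b, ⟨_, k, rfl⟩, rfl⟩ := IsLocalization.exists_mk'_eq (Submonoid.powers g) z
  obtain ⟨w, hw⟩ := hB b
  refine ⟨w * (zd * algebraMap A _ s ^ m * zs) ^ k, ?_⟩
  rw [IsLocalization.eq_mk'_iff_mul_eq]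
  change ψ _ * ι (g ^ k) = ι b
  rw [map_mul, map_pow, map_mul, map_mul, map_pow, hψ, hw, map_pow, mul_assoc, ← mul_pow]
  suffices ψ zd * ι (φ s) ^ m * ψ zs * ι g = 1 by rw [this, one_pow, mul_one]
  rw [show ι g = ι (φ s) * ι t from map_mul ι _ _]
  rw [hdt] at hzd
  linear_combination (ψ zd * ι (φ s) ^ m * ι t) * hzs + hzd

variable {X Y : Scheme.{u}}

/-- A locally finite type morphism surjective on the stalk at a point is a local immersion there. -/
lemma isLocalImmersionAt_of_stalkMap_surjective (f : X ⟶ Y) [LocallyOfFiniteType f] (x : X)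
    (h : Function.Surjective (f.stalkMap x)) : IsLocalImmersionAt f x := by
  obtain ⟨_, ⟨V, hV, rfl⟩, hyV, -⟩ :=
    Y.isBasis_affineOpens.exists_subset_of_mem_open (Set.mem_univ (f x)) isOpen_univ
  obtain ⟨_, ⟨U, hU, rfl⟩, hxU, hUV⟩ :=
    X.isBasis_affineOpens.exists_subset_of_mem_open (show x ∈ f ⁻¹ᵁ V from hyV) (f ⁻¹ᵁ V).isOpen
  have h' := (RingHom.surjective_respectsIso.arrow_mk_iso_iff
    (IsAffineOpen.arrowStalkMapIso f V hV U hU hUV hxU)).mp h
  let φ := (f.appLE V U hUV).hom
  let q := (hU.primeIdealOf ⟨x, hxU⟩).asIdeal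
  have hq : Function.Surjective (Localization.localRingHom (q.comap φ) q φ rfl) := by
    have e : (hV.primeIdealOf ⟨f x, hUV hxU⟩).asIdeal = q.comap φ :=
      congr($(IsAffineOpen.comap_primeIdealOf_appLE V hV U hU hUV hxU).1).symm
    have : ∀ (p : Ideal Γ(Y, V)) (_ : p.IsPrime) (e : p = q.comap φ),
        Function.Surjective (Localization.localRingHom p q φ e) →
        Function.Surjective (Localization.localRingHom (q.comap φ) q φ rfl) := by
      rintro p _ rfl h; exact h
    exact this _ inferInstance e h'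
  obtain ⟨a, g, hg, ψ, hψ, hψc⟩ := exists_away_surjective φ (f.finiteType_appLE hV hU hUV) q hq
  let k : Spec (CommRingCat.of (Localization.Away g)) ⟶ X :=
    Spec.map (CommRingCat.ofHom (algebraMap Γ(X, U) (Localization.Away g))) ≫ hU.fromSpec
  have : IsOpenImmersion (Spec.map (CommRingCat.ofHom (algebraMap Γ(X, U) (Localization.Away g)))) :=
    IsOpenImmersion.of_isLocalization g
  have : IsOpenImmersion (Spec.map (CommRingCat.ofHom (algebraMap Γ(Y, V) (Localization.Away a)))) :=
    IsOpenImmersion.of_isLocalization a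
  have : IsClosedImmersion (Spec.map (CommRingCat.ofHom ψ)) :=
    IsClosedImmersion.spec_of_surjective _ hψ
  have himm : IsImmersion (k ≫ f) := by
    have : k ≫ f = Spec.map (CommRingCat.ofHom ψ) ≫
        Spec.map (CommRingCat.ofHom (algebraMap Γ(Y, V) (Localization.Away a))) ≫ hV.fromSpec := by
      simp only [k, Category.assoc, ← IsAffineOpen.SpecMap_appLE_fromSpec f hV hU hUV,
        ← Spec.map_comp_assoc, ← CommRingCat.ofHom_comp, hψc]
      rfl
    rw [this]
    infer_instance
  rw [isLocalImmersionAt_iff_isImmersion]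
  refine ⟨k.opensRange, ?_, ?_⟩
  · obtain ⟨p, hp⟩ : hU.primeIdealOf ⟨x, hxU⟩ ∈
        Set.range (PrimeSpectrum.comap (algebraMap Γ(X, U) (Localization.Away g))) := by
      rw [PrimeSpectrum.localization_away_comap_range (Localization.Away g) g]
      exact hg
    refine ⟨p, ?_⟩
    exact (congrArg hU.fromSpec.base hp).trans (hU.fromSpec_primeIdealOf ⟨x, hxU⟩)
  · rw [← k.isoOpensRange_hom_ι, Category.assoc,
      MorphismProperty.cancel_left_of_respectsIso @IsImmersion] at himm
    exact himm

lemma isLocalImmersionAt_iff_stalkMap_surjective (f : X ⟶ Y) [LocallyOfFiniteType f] (x : X) :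
    IsLocalImmersionAt f x ↔ Function.Surjective (f.stalkMap x) :=
  ⟨stalkMap_surjective_of_isLocalImmersionAt f x, isLocalImmersionAt_of_stalkMap_surjective f x⟩

end Groth.Agent.LocalImm
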